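import Mathlib
import Groth.Prelude.Def_Dual3
import Groth.Agent.Lib.Helper4.BaseChgMax1
import Groth.Agent.Lib.Helper4.FibDimBC2

/-!
# helper7: points of a double base change over a pair of points, with full residual
transcendence degree (S7287).  The half "minimal prime gives full transcendence degree" is adapted
from helper4's `BaseChgMax1.tr_le_tr_snd_of_max` (same proof, weaker maximality hypothesis).
-/

set_option backward.isDefEq.respectTransparency.types false
set_option synthInstance.maxHeartbeats 400000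
set_option maxHeartbeats 1600000
set_option autoImplicit false
set_option linter.unusedSectionVars false
set_option linter.unusedVariables false
set_option linter.style.haveILetI false
set_option linter.unusedSimpArgs false
universe u v w
open CategoryTheory CategoryTheory.Limits AlgebraicGeometry TopologicalSpace IsLocalRing Opposite
open Cardinal MvPolynomial
open Groth.Agent.Lib.Helper4.FibDim1 Groth.Agent.Lib.Helper4.Aff2 Groth.Agent.Lib.Helper4.BaseChg1
open Groth.Agent.Lib.Helper4.BaseChgMax1 Groth.Agent.Lib.Helper4.FibDimBC2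

namespace Groth.Agent.Helper7.TrPair
open TensorProduct AlgebraicGeometry.Scheme.Pullback

section TRGE
variable {X Y Y' : Scheme.{u}} (f : X ⟶ Y) (g : Y' ⟶ Y)

theorem specOfPoint_minimal' (w : ↥(pullback f g))
    (hmax : ∀ w' : ↥(pullback f g), w' ⤳ w → pullback.fst f g w' = pullback.fst f g w →
      pullback.snd f g w' = pullback.snd f g w → w' = w) :
    (SpecOfPoint w).asIdeal ∈ minimalPrimes (Triplet.ofPoint w).tensor := by
  refine ⟨⟨(SpecOfPoint w).isPrime, bot_le⟩, ?_⟩
  rintro J ⟨hJ, -⟩ hle
  have hsp : (⟨J, hJ⟩ : Spec (Triplet.ofPoint w).tensor) ⤳ SpecOfPoint w :=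
    (PrimeSpectrum.le_iff_specializes _ _).mp hle
  have h1 := hsp.map (Triplet.ofPoint w).SpecTensorTo.continuous
  rw [SpecTensorTo_SpecOfPoint] at h1
  have h2 : pullback.snd f g ((Triplet.ofPoint w).SpecTensorTo ⟨J, hJ⟩) = pullback.snd f g w :=
    Triplet.snd_SpecTensorTo_apply _ _
  have h2' : pullback.fst f g ((Triplet.ofPoint w).SpecTensorTo ⟨J, hJ⟩) = pullback.fst f g w :=
    Triplet.fst_SpecTensorTo_apply _ _
  have h3 := hmax _ h1 h2' h2
  have h4 : carrierEquiv.symm ⟨Triplet.ofPoint w, ⟨J, hJ⟩⟩ =
      carrierEquiv.symm ⟨Triplet.ofPoint w, SpecOfPoint w⟩ := by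
    change (Triplet.ofPoint w).SpecTensorTo ⟨J, hJ⟩ =
      (Triplet.ofPoint w).SpecTensorTo (SpecOfPoint w)
    rw [h3, SpecTensorTo_SpecOfPoint]
  have h5 := carrierEquiv.symm.injective h4
  have h6 : (⟨J, hJ⟩ : Spec (Triplet.ofPoint w).tensor) = SpecOfPoint w :=
    eq_of_heq (Sigma.mk.inj h5).2
  have h7 : J = (SpecOfPoint w).asIdeal := congrArg PrimeSpectrum.asIdeal h6
  rw [h7]

variable [LocallyOfFiniteType f]

/-- adapted from helper4's `tr_le_tr_snd_of_max`: maximality among the points with the same two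
projections suffices. -/
theorem tr_le_tr_snd_of_max' (w : ↥(pullback f g))
    (hmax : ∀ w' : ↥(pullback f g), w' ⤳ w → pullback.fst f g w' = pullback.fst f g w →
      pullback.snd f g w' = pullback.snd f g w → w' = w) :
    tr f (pullback.fst f g w) ≤ tr (pullback.snd f g) w := by
  have e : f (pullback.fst f g w) = g (pullback.snd f g w) := by
    rw [← Scheme.Hom.comp_apply, ← Scheme.Hom.comp_apply, pullback.condition]
  letI algK : Algebra (Y.residueField (f (pullback.fst f g w)))
      (X.residueField (pullback.fst f g w)) :=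
    (f.residueFieldMap (pullback.fst f g w)).hom.toAlgebra
  letI algL : Algebra (Y.residueField (f (pullback.fst f g w)))
      (Y'.residueField (pullback.snd f g w)) :=
    ((Y.residueFieldCongr e).hom ≫ g.residueFieldMap (pullback.snd f g w)).hom.toAlgebra
  letI algW : Algebra (Y'.residueField (pullback.snd f g w)) ((pullback f g).residueField w) :=
    ((pullback.snd f g).residueFieldMap w).hom.toAlgebra
  -- the two pushouts
  have hpo1 := CommRingCat.isPushout_tensorProduct (Y.residueField (f (pullback.fst f g w)))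
    (X.residueField (pullback.fst f g w)) (Y'.residueField (pullback.snd f g w))
  have hpo2 : IsPushout (CommRingCat.ofHom (algebraMap (Y.residueField (f (pullback.fst f g w)))
      (X.residueField (pullback.fst f g w))))
      (CommRingCat.ofHom (algebraMap (Y.residueField (f (pullback.fst f g w)))
      (Y'.residueField (pullback.snd f g w))))
      (Triplet.ofPoint w).tensorInl (Triplet.ofPoint w).tensorInr := by
    have h0 : IsPushout
        ((Y.residueFieldCongr (Triplet.ofPoint w).hx).inv ≫ f.residueFieldMap (Triplet.ofPoint w).x)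
        ((Y.residueFieldCongr (Triplet.ofPoint w).hy).inv ≫ g.residueFieldMap (Triplet.ofPoint w).y)
        (Triplet.ofPoint w).tensorInl (Triplet.ofPoint w).tensorInr := IsPushout.of_hasPushout _ _
    have e1 : (Y.residueFieldCongr (Triplet.ofPoint w).hx).inv ≫
        f.residueFieldMap (Triplet.ofPoint w).x =
        CommRingCat.ofHom (algebraMap (Y.residueField (f (pullback.fst f g w)))
          (X.residueField (pullback.fst f g w))) := by
      change (Iso.refl _).inv ≫ f.residueFieldMap (pullback.fst f g w) = _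
      rw [Iso.refl_inv, Category.id_comp]
      rfl
    have e2 : (Y.residueFieldCongr (Triplet.ofPoint w).hy).inv ≫
        g.residueFieldMap (Triplet.ofPoint w).y =
        CommRingCat.ofHom (algebraMap (Y.residueField (f (pullback.fst f g w)))
          (Y'.residueField (pullback.snd f g w))) := rfl
    rw [e1, e2] at h0
    exact h0
  obtain ⟨E, hEdef⟩ : ∃ E : (Triplet.ofPoint w).tensor ≅ CommRingCat.of
      (X.residueField (pullback.fst f g w) ⊗[Y.residueField (f (pullback.fst f g w))]
        Y'.residueField (pullback.snd f g w)), E = hpo2.isoIsPushout _ _ hpo1 := ⟨_, rfl⟩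
  have hEl : CommRingCat.ofHom Algebra.TensorProduct.includeLeftRingHom ≫ E.inv =
      (Triplet.ofPoint w).tensorInl := by rw [hEdef]; exact IsPushout.inl_isoIsPushout_inv _ _ hpo2 hpo1
  have hEr : CommRingCat.ofHom Algebra.TensorProduct.includeRight.toRingHom ≫ E.inv =
      (Triplet.ofPoint w).tensorInr := by rw [hEdef]; exact IsPushout.inr_isoIsPushout_inv _ _ hpo2 hpo1
  -- the minimal prime
  have hmin := specOfPoint_minimal' f g w hmax
  have hmin' := minimalPrimes_comap_ringEquiv E.commRingCatIsoToRingEquiv _ hmin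
  -- the kernel of the map to the residue field
  have hker : ∀ r : (Triplet.ofPoint w).tensor,
      (ofPointTensor w).hom r = 0 → r ∈ (SpecOfPoint w).asIdeal := by
    intro r hr
    change r ∈ Ideal.comap (ofPointTensor w).hom (⊥ : Ideal _)
    rw [Ideal.mem_comap, Ideal.mem_bot]
    exact hr
  -- a transcendence basis
  obtain ⟨s, hs⟩ := exists_isTranscendenceBasis (Y.residueField (f (pullback.fst f g w)))
    (X.residueField (pullback.fst f g w))
  have hcard : #s = (tr f (pullback.fst f g w) : Cardinal.{u}) := by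
    rw [hs.cardinalMk_eq_trdeg]
    exact tr_spec f _
  have hind : AlgebraicIndependent (Y'.residueField (pullback.snd f g w))
      (fun i : s => ((pullback.fst f g).residueFieldMap w).hom (i : X.residueField _)) := by
    rw [algebraicIndependent_iff_injective_aeval, injective_iff_map_eq_zero]
    intro F hF
    have hcomp : ((MvPolynomial.aeval (R := Y'.residueField (pullback.snd f g w))
        (fun i : s => ((pullback.fst f g).residueFieldMap w).hom (i : X.residueField _))) :
        MvPolynomial s (Y'.residueField (pullback.snd f g w)) →ₐ[_] _).toRingHom =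
        ((ofPointTensor w).hom.comp E.inv.hom).comp
          (evalTensor (k := Y.residueField (f (pullback.fst f g w)))
            (fun i : s => (i : X.residueField (pullback.fst f g w)))) := by
      apply MvPolynomial.ringHom_ext
      · intro l
        have h1 : (ofPointTensor w).hom (E.inv.hom ((1 : X.residueField _) ⊗ₜ l)) =
            ((pullback.snd f g).residueFieldMap w).hom l := by
          have := congr($(hEr).hom l)
          change E.inv.hom ((1 : X.residueField _) ⊗ₜ l) = _ at this
          rw [this]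
          exact congr($(pushout.inr_desc _ _ (residueFieldCongr_inv_residueFieldMap_ofPoint w)).hom l)
        simp only [evalTensor, AlgHom.toRingHom_eq_coe, RingHom.coe_coe, MvPolynomial.aeval_C,
          RingHom.coe_comp, Function.comp_apply, MvPolynomial.coe_eval₂Hom, MvPolynomial.eval₂_C]
        rw [show (Algebra.TensorProduct.includeRight (R := Y.residueField (f (pullback.fst f g w)))
          (A := X.residueField (pullback.fst f g w))) l = (1 : X.residueField _) ⊗ₜ l from rfl, h1]
        rfl
      · intro i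
        have h1 : (ofPointTensor w).hom (E.inv.hom ((i : X.residueField _) ⊗ₜ (1 : Y'.residueField _))) =
            ((pullback.fst f g).residueFieldMap w).hom (i : X.residueField _) := by
          have := congr($(hEl).hom i.1)
          change E.inv.hom ((i : X.residueField _) ⊗ₜ (1 : Y'.residueField _)) = _ at this
          rw [this]
          have hdesc : (Triplet.ofPoint w).tensorInl ≫ ofPointTensor w =
              (pullback.fst f g).residueFieldMap w :=
            pushout.inl_desc _ _ (residueFieldCongr_inv_residueFieldMap_ofPoint w)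
          exact congr($(hdesc).hom i.1)
        simp only [evalTensor, AlgHom.toRingHom_eq_coe, RingHom.coe_coe, MvPolynomial.aeval_X,
          RingHom.coe_comp, Function.comp_apply, MvPolynomial.coe_eval₂Hom, MvPolynomial.eval₂_X]
        rw [h1]
    have hF' := congrArg (fun φ : MvPolynomial s (Y'.residueField (pullback.snd f g w)) →+*
      (pullback f g).residueField w => φ F) hcomp
    simp only [AlgHom.toRingHom_eq_coe, RingHom.coe_coe, RingHom.coe_comp,
      Function.comp_apply] at hF'
    rw [hF] at hF'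
    have h2 := hker _ hF'.symm
    apply evalTensor_injective_mod_minimalPrime
      (k := Y.residueField (f (pullback.fst f g w)))
      (fun i : s => (i : X.residueField (pullback.fst f g w))) hs.1 _ hmin' F
    rw [Ideal.mem_comap]
    exact h2
  have key := hind.cardinalMk_le_trdeg
  rw [hcard] at key
  have h3 : Algebra.trdeg (Y'.residueField (pullback.snd f g w)) ((pullback f g).residueField w) =
      (tr (pullback.snd f g) w : Cardinal.{u}) := tr_spec (pullback.snd f g) w
  rw [h3] at key
  exact_mod_cast key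


end TRGE

section Abs
variable {X S X' S' : Scheme.{u}} (f : X ⟶ S) [LocallyOfFiniteType f] (g : S' ⟶ S)
    (g' : X' ⟶ X) (f' : X' ⟶ S') (hsq : IsPullback g' f' f g)

include hsq in
theorem tr_le_abs [LocallyOfFiniteType f'] (z' : X') : tr f' z' ≤ tr f (g' z') := by
  obtain ⟨e, hfst, hsnd⟩ : ∃ e : X' ≅ pullback f g, e.hom ≫ pullback.fst f g = g' ∧
      e.hom ≫ pullback.snd f g = f' :=
    ⟨hsq.isoPullback, hsq.isoPullback_hom_fst, hsq.isoPullback_hom_snd⟩
  have hfst' : ∀ a : X', pullback.fst f g (e.hom a) = g' a := by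
    intro a; rw [← Scheme.Hom.comp_apply, hfst]
  have htr : tr f' z' = tr (pullback.snd f g) (e.hom z') :=
    tr_eq_of_square e.hom (pullback.snd f g) f' (𝟙 S') (by rw [hsnd, Category.comp_id]) z'
  rw [htr, ← hfst' z']
  exact tr_snd_le f g (e.hom z')

include hsq in
/-- full residual transcendence degree forces maximality among the points with the same two
projections -/
theorem max_of_tr_eq [LocallyOfFiniteType f'] (z' : X') (h : tr f' z' = tr f (g' z'))
    (z₀ : X') (hsp : z₀ ⤳ z') (hg : g' z₀ = g' z') (hf : f' z₀ = f' z') : z₀ = z' := by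
  by_contra hne
  have h1 := tr_lt_of_specializes f' z₀ z' hsp hne hf
  have h2 := tr_le_abs f g g' f' hsq z₀
  rw [hg] at h2
  omega

include hsq in
/-- maximality among the points with the same two projections gives full residual transcendence
degree -/
theorem tr_eq_of_max2_abs [LocallyOfFiniteType f'] (z' : X')
    (hmax : ∀ z₀ : X', z₀ ⤳ z' → g' z₀ = g' z' → f' z₀ = f' z' → z₀ = z') :
    tr f' z' = tr f (g' z') := by
  obtain ⟨e, hfst, hsnd⟩ : ∃ e : X' ≅ pullback f g, e.hom ≫ pullback.fst f g = g' ∧
      e.hom ≫ pullback.snd f g = f' :=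
    ⟨hsq.isoPullback, hsq.isoPullback_hom_fst, hsq.isoPullback_hom_snd⟩
  have hfst' : ∀ a : X', pullback.fst f g (e.hom a) = g' a := by
    intro a; rw [← Scheme.Hom.comp_apply, hfst]
  have hsnd' : ∀ a : X', pullback.snd f g (e.hom a) = f' a := by
    intro a; rw [← Scheme.Hom.comp_apply, hsnd]
  have hinv : ∀ w : ↥(pullback f g), e.hom (e.inv w) = w := by
    intro w; rw [← Scheme.Hom.comp_apply, Iso.inv_hom_id]; rfl
  have hinv' : ∀ a : X', e.inv (e.hom a) = a := by
    intro a; rw [← Scheme.Hom.comp_apply, Iso.hom_inv_id]; rfl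
  have hmax' : ∀ w' : ↥(pullback f g), w' ⤳ e.hom z' →
      pullback.fst f g w' = pullback.fst f g (e.hom z') →
      pullback.snd f g w' = pullback.snd f g (e.hom z') → w' = e.hom z' := by
    intro w' hsp hw1 hw2
    have h1 : e.inv w' ⤳ z' := by
      have := hsp.map e.inv.continuous
      rwa [hinv'] at this
    have h2 : f' (e.inv w') = f' z' := by
      rw [← hsnd', hinv, hw2, hsnd']
    have h3 : g' (e.inv w') = g' z' := by
      rw [← hfst', hinv, hw1, hfst']
    rw [← hmax _ h1 h3 h2, hinv]
  have htr : tr f' z' = tr (pullback.snd f g) (e.hom z') :=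
    tr_eq_of_square e.hom (pullback.snd f g) f' (𝟙 S') (by rw [hsnd, Category.comp_id]) z'
  apply le_antisymm (tr_le_abs f g g' f' hsq z')
  rw [htr, ← hfst' z']
  exact tr_le_tr_snd_of_max' f g (e.hom z') hmax'

include hsq in
theorem exists_max2 [LocallyOfFiniteType f'] (w : X') :
    ∃ w' : X', w' ⤳ w ∧ g' w' = g' w ∧ f' w' = f' w ∧
      ∀ z₀ : X', z₀ ⤳ w' → g' z₀ = g' w' → f' z₀ = f' w' → z₀ = w' := by
  classical
  have hbdd : BddAbove {n : ℕ | ∃ z : X', (z ⤳ w ∧ g' z = g' w ∧ f' z = f' w) ∧ tr f' z = n} := by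
    refine ⟨tr f (g' w), ?_⟩
    rintro n ⟨z, hz, rfl⟩
    have := tr_le_abs f g g' f' hsq z
    rw [hz.2.1] at this
    exact this
  have hnon : {n : ℕ | ∃ z : X', (z ⤳ w ∧ g' z = g' w ∧ f' z = f' w) ∧ tr f' z = n}.Nonempty :=
    ⟨_, w, ⟨specializes_rfl, rfl, rfl⟩, rfl⟩
  obtain ⟨w', hw', hzeq⟩ := Nat.sSup_mem hnon hbdd
  refine ⟨w', hw'.1, hw'.2.1, hw'.2.2, fun z₀ hsp hg hf => ?_⟩
  by_contra hne
  have h1 := tr_lt_of_specializes f' z₀ w' hsp hne hf
  have h2 : tr f' z₀ ≤ sSup {n : ℕ | ∃ z : X', (z ⤳ w ∧ g' z = g' w ∧ f' z = f' w) ∧ tr f' z = n} :=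
    le_csSup hbdd ⟨z₀, ⟨hsp.trans hw'.1, hg.trans hw'.2.1, hf.trans hw'.2.2⟩, rfl⟩
  rw [← hzeq] at h2
  omega

end Abs

theorem main {X S S' S'' X' X'' : Scheme.{u}}
    (f : X ⟶ S) [LocallyOfFiniteType f] (r : ℕ) (g : S' ⟶ S)
    (p q : S'' ⟶ S') (hS : IsPullback p q g g)
    (f' : X' ⟶ S') (g' : X' ⟶ X) (hX : IsPullback g' f' f g)
    (f'' : X'' ⟶ S'') (p' q' : X'' ⟶ X') (hp : IsPullback p' f'' f' p) (hq : IsPullback q' f'' f' q)
    (hpq : p' ≫ g' = q' ≫ g')
    (x : ↥X) (hx : Dual3.resTrdeg f x = r)
    (x₁ x₂ : ↥X') (h₁ : g'.base x₁ = x) (h₂ : g'.base x₂ = x)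
    (hx₁ : Dual3.resTrdeg f' x₁ = r) (hx₂ : Dual3.resTrdeg f' x₂ = r) :
    ∃ x'' : ↥X'', Dual3.resTrdeg f'' x'' = r ∧ p'.base x'' = x₁ ∧ q'.base x'' = x₂ := by
  haveI : LocallyOfFiniteType f' := MorphismProperty.of_isPullback hX inferInstance
  haveI : LocallyOfFiniteType f'' := MorphismProperty.of_isPullback hp inferInstance
  have hrx : tr f x = r := tr_eq_of_trdeg_eq f x r hx
  have hr1 : tr f' x₁ = r := tr_eq_of_trdeg_eq f' x₁ r hx₁
  have hr2 : tr f' x₂ = r := tr_eq_of_trdeg_eq f' x₂ r hx₂
  -- the composite squares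
  have hXp : IsPullback (p' ≫ g') f'' f (p ≫ g) := hp.paste_horiz hX
  have outer : IsPullback (q' ≫ f') p' g (g' ≫ f) := by
    rw [hq.w, hX.w]
    exact hp.flip.paste_horiz hS.flip
  have hXX : IsPullback q' p' g' g' := IsPullback.of_right outer hpq.symm hX.flip
  obtain ⟨w, hwq, hwp⟩ := AlgebraicGeometry.Scheme.exists_preimage_of_isPullback hXX x₂ x₁
    (h₂.trans h₁.symm)
  obtain ⟨w', hsp, hgw, hfw, hmax⟩ := exists_max2 f (p ≫ g) (p' ≫ g') f'' hXp w
  have htr := tr_eq_of_max2_abs f (p ≫ g) (p' ≫ g') f'' hXp w' hmax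
  have hgw' : g' (p' w') = x := by
    rw [← Scheme.Hom.comp_apply, hgw, Scheme.Hom.comp_apply]
    rw [hwp, h₁]
  have hgq' : g' (q' w') = x := by
    rw [← Scheme.Hom.comp_apply, ← hpq, Scheme.Hom.comp_apply]
    exact hgw'
  have hfp : ∀ a : X'', f' (p' a) = p (f'' a) := by
    intro a; rw [← Scheme.Hom.comp_apply, ← Scheme.Hom.comp_apply, hp.w]
  have hfq : ∀ a : X'', f' (q' a) = q (f'' a) := by
    intro a; rw [← Scheme.Hom.comp_apply, ← Scheme.Hom.comp_apply, hq.w]
  have e1 : p' w' = x₁ := by
    apply max_of_tr_eq f g g' f' hX x₁ (by rw [hr1, h₁, hrx])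
    · have := hsp.map p'.continuous
      change p'.base w' ⤳ p'.base w at this
      rw [hwp] at this
      exact this
    · rw [hgw']; exact h₁.symm
    · rw [hfp, hfw, ← hfp]
      rw [hwp]
  have e2 : q' w' = x₂ := by
    apply max_of_tr_eq f g g' f' hX x₂ (by rw [hr2, h₂, hrx])
    · have := hsp.map q'.continuous
      change q'.base w' ⤳ q'.base w at this
      rw [hwq] at this
      exact this
    · rw [hgq']; exact h₂.symm
    · rw [hfq, hfw, ← hfq]
      rw [hwq]
  refine ⟨w', ?_, e1, e2⟩
  have h3 := tr_spec f'' w'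
  rw [htr, Scheme.Hom.comp_apply, hgw', hrx] at h3
  exact h3

end Groth.Agent.Helper7.TrPair
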